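import Mathlib
import Cfsg.Agent.Wo.SubA1
import Cfsg.Agent.Wo.SubA2
import Cfsg.Agent.Wo.SubA3

/-! Involutions, planar involutions and the big space: collected imports. -/
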