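import Mathlib
import Cfsg.Agent.Wo.SubB1
import Cfsg.Agent.Wo.SubB2

/-! The subgroups `Ω(Y)`: collected imports. -/
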